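import Mathlib
import Cfsg.Agent.H990.PClosed
import Cfsg.Agent.TwoFusion.PResidual
import Cfsg.Agent.Lib.SylowNormalInf
import Cfsg.Agent.H990.Norm
set_option linter.all false

/-!
# `p`-irreducible groups, `Y`-minimal groups
-/

set_option autoImplicit false
set_option linter.unusedSectionVars false

open Subgroup Cfsg

namespace Cfsg.Agent.H990.PIrr

open Cfsg.Agent.H990.PClosed Cfsg.Agent.H990.Norm
open scoped Pointwise

variable {H : Type*} [Group H]

section Fin

variable [Finite H] {p : ℕ} [hp : Fact p.Prime]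

/-- an element of order prime to `p` whose image lies in `O_p (H / N)` lies in `N` -/
theorem mem_of_mk_mem_pCore {N : Subgroup H} [N.Normal] {b : H} (hb : QuotientGroup.mk' N b ∈ pCore p (H ⧸ N))
    (hcop : (orderOf b).Coprime p) : b ∈ N := by
  have h1 := (Lib.Cores.pCore_isPGroup (G := H ⧸ N) p) ⟨_, hb⟩
  obtain ⟨k, hk⟩ := h1
  have hk' : (QuotientGroup.mk' N b) ^ p ^ k = 1 := by
    have := congrArg Subtype.val hk
    simpa using this
  have h2 : orderOf (QuotientGroup.mk' N b) ∣ p ^ k := orderOf_dvd_of_pow_eq_one hk'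
  have h3 : orderOf (QuotientGroup.mk' N b) ∣ orderOf b := orderOf_map_dvd _ b
  have h4 : orderOf (QuotientGroup.mk' N b) = 1 :=
    Nat.eq_one_of_dvd_coprimes (hcop.pow_right k) h3 h2
  rw [orderOf_eq_one_iff] at h4
  exact (QuotientGroup.eq_one_iff b).1 h4

/-- an element of order prime to `p` of `K`, where `K / (K ∩ N)` is covered by a `p`-group, lies in `N` -/
theorem mem_of_mem_sup {N Y : Subgroup H} [N.Normal] (hY : IsPGroup p Y) {b : H} (hb : b ∈ N ⊔ Y)
    (hcop : (orderOf b).Coprime p) : b ∈ N := by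
  have h1 : QuotientGroup.mk' N b ∈ Y.map (QuotientGroup.mk' N) := by
    have h2 : QuotientGroup.mk' N b ∈ (N ⊔ Y).map (QuotientGroup.mk' N) := mem_map_of_mem _ hb
    rw [Subgroup.map_sup, QuotientGroup.map_mk'_self, bot_sup_eq] at h2
    exact h2
  obtain ⟨k, hk⟩ := (hY.map (QuotientGroup.mk' N)) ⟨_, h1⟩
  have hk' : (QuotientGroup.mk' N b) ^ p ^ k = 1 := by
    have := congrArg Subtype.val hk
    simpa using this
  have h2 : orderOf (QuotientGroup.mk' N b) ∣ p ^ k := orderOf_dvd_of_pow_eq_one hk'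
  have h3 : orderOf (QuotientGroup.mk' N b) ∣ orderOf b := orderOf_map_dvd _ b
  have h4 : orderOf (QuotientGroup.mk' N b) = 1 :=
    Nat.eq_one_of_dvd_coprimes (hcop.pow_right k) h3 h2
  rw [orderOf_eq_one_iff] at h4
  exact (QuotientGroup.eq_one_iff b).1 h4

theorem pResidual_le_of_le_sup {N Y : Subgroup H} [N.Normal] (hY : IsPGroup p Y) (h : pResidual p H ≤ N ⊔ Y) :
    pResidual p H ≤ N := by
  refine TwoFusion.PResidual.pResidual_le p fun g hg => ?_
  exact mem_of_mem_sup hY (h (TwoFusion.PResidual.mem_pResidual_of_coprime p hg)) hg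

theorem isPClosed_congr {A B : Type*} [Group A] [Group B] [Finite A] [Finite B] (e : A ≃* B) (h : IsPClosed p A) :
    IsPClosed p B := by
  rw [isPClosed_iff] at h ⊢
  intro T hT
  have h1 := h (T.map e.symm.toMonoidHom) (hT.map _)
  rw [← Lib.Cores.map_equiv_pCore e p]
  intro x hx
  refine ⟨e.symm x, h1 ⟨x, hx, rfl⟩, ?_⟩
  simp

/-- a normal subgroup not containing `O^p (H)` of a `p`-irreducible group is `p`-closed -/
theorem isPClosed_of_not_le (hH : IsPIrreducible p H) {N : Subgroup H} (hN : N.Normal) (h : ¬ pResidual p H ≤ N) :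
    IsPClosed p ↥N := by
  by_contra hc
  exact h (hH.2 N hN hc)

/-- if `R` is the preimage of `O_p (H / N)` and all `p`-subgroups of `R` lie in `N` then `R = N` -/
theorem pCore_quotient_eq_bot {N : Subgroup H} [N.Normal]
    (h : ∀ x : H, QuotientGroup.mk' N x ∈ pCore p (H ⧸ N) → (∃ k : ℕ, orderOf x = p ^ k) → x ∈ N) :
    pCore p (H ⧸ N) = ⊥ := by
  rw [eq_bot_iff]
  intro y hy
  obtain ⟨x, rfl⟩ := QuotientGroup.mk'_surjective N y
  rw [mem_bot]
  obtain ⟨a, b, hab, ha, hb⟩ := TwoFusion.PResidual.exists_pPart_mul_pPrimePart p x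
  have h1 : x ^ a ∈ N := h _ (by rw [map_zpow]; exact zpow_mem hy a) ha
  have h2 : x ^ b ∈ N := mem_of_mk_mem_pCore (by rw [map_zpow]; exact zpow_mem hy b) hb
  exact (QuotientGroup.eq_one_iff x).2 (by rw [hab]; exact N.mul_mem h1 h2)

theorem zpowers_isPGroup {x : H} (hx : ∃ k : ℕ, orderOf x = p ^ k) : IsPGroup p ↥(zpowers x) := by
  obtain ⟨k, hk⟩ := hx
  exact IsPGroup.of_card (n := k) (by rw [Nat.card_zpowers, hk])

/-- `O_p (H / C) = 1` for a normal subgroup `C` containing `O_p (H)` but not `O^p (H)`, `H` `p`-irreducible -/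
theorem pCore_quotient_eq_bot_of_irr (hH : IsPIrreducible p H) {C : Subgroup H} [C.Normal]
    (hC : ¬ pResidual p H ≤ C) (hO : pCore p H ≤ C) : pCore p (H ⧸ C) = ⊥ := by
  apply pCore_quotient_eq_bot
  intro x hx hk
  have hn := Lib.Cores.pCore_normal (G := H ⧸ C) p
  set R : Subgroup H := (pCore p (H ⧸ C)).comap (QuotientGroup.mk' C) with hR
  have hRn : R.Normal := hn.comap _
  have hcl : IsPClosed p ↥R := by
    apply isPClosed_of_not_le hH hRn
    intro hle
    apply hC
    refine TwoFusion.PResidual.pResidual_le p fun g hg => ?_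
    exact mem_of_mk_mem_pCore (p := p) (hle (TwoFusion.PResidual.mem_pResidual_of_coprime p hg)) hg
  rw [isPClosed_normal_iff hRn] at hcl
  have h1 : zpowers x ≤ R := by
    rw [zpowers_le]
    exact hx
  exact hO (hcl _ h1 (zpowers_isPGroup hk) (mem_zpowers x))

/-! ### `Y`-minimal groups -/

theorem isMinimalOver_iff {Y : Subgroup H} : IsMinimalOver Y ↔ normalClosure (Y : Set H) = ⊤ ∧
    ∃ M : Subgroup H, M ≠ ⊤ ∧ Y ≤ M ∧ ∀ K : Subgroup H, Y ≤ K → K ≠ ⊤ → K ≤ M := by
  constructor
  · rintro ⟨h1, M, ⟨h2, h3⟩, h4⟩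
    refine ⟨h1, M, h2.1, h3, fun K hYK hK => ?_⟩
    obtain h5 | ⟨X, hX, hKX⟩ := eq_top_or_exists_le_coatom K
    · exact absurd h5 hK
    · rw [← h4 X ⟨hX, hYK.trans hKX⟩]
      exact hKX
  · rintro ⟨h1, M, h2, h3, h4⟩
    refine ⟨h1, M, ⟨⟨h2, fun K hK => ?_⟩, h3⟩, ?_⟩
    · by_contra hne
      exact absurd (h4 K (h3.trans hK.le) hne) (not_le_of_gt hK)
    · rintro K ⟨hK, hYK⟩
      have h5 := h4 K hYK hK.1
      exact (hK.le_iff.1 h5).resolve_left h2 |>.symm

/-- the maximal subgroup over `Y` contains the normaliser of every subgroup over `Y` that is not normal -/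
theorem not_isPClosed_of_min {T : Sylow p H} (hmin : IsMinimalOver (T : Subgroup H)) : ¬ IsPClosed p H := by
  intro h
  obtain ⟨h1, M, hM, hTM, -⟩ := isMinimalOver_iff.1 hmin
  have hn := h T
  apply hM
  rw [← top_le_iff, ← h1]
  exact (normalClosure_le_normal (N := (T : Subgroup H)) le_rfl).trans hTM

/-- `T`-minimal groups (`T` a Sylow `p`-subgroup) are `p`-irreducible -/
theorem isPIrreducible_of_min {T : Sylow p H} (hmin : IsMinimalOver (T : Subgroup H)) : IsPIrreducible p H := by
  refine ⟨not_isPClosed_of_min hmin, fun N hN hcl => ?_⟩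
  obtain ⟨h1, M, hM, hTM, hmax⟩ := isMinimalOver_iff.1 hmin
  have hF := Lib.SylowNormalInf.normalizer_inf_sup_eq_top T N
  have h2 : normalizer (((T : Subgroup H) ⊓ N : Subgroup H) : Set H) ≠ ⊤ := by
    intro h
    apply hcl
    rw [isPClosed_normal_iff hN]
    have h3 : ((T : Subgroup H) ⊓ N : Subgroup H).Normal := normalizer_eq_top_iff.1 h
    have h4 : (T : Subgroup H) ⊓ N ≤ pCore p H := Lib.Cores.le_pCore h3 (T.isPGroup'.to_le inf_le_left)
    intro X hXN hX
    obtain ⟨Q, hQ⟩ := hX.exists_le_sylow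
    obtain ⟨g, hg⟩ := MulAction.exists_smul_eq H T Q
    intro x hx
    have h5 := hQ hx
    rw [← hg, Sylow.coe_subgroup_smul, Subgroup.mem_pointwise_smul_iff_inv_smul_mem] at h5
    have h6 : ((MulAut.conj g)⁻¹ • x) ∈ N := by
      rw [← map_inv, MulAut.smul_def, MulAut.conj_apply]
      exact hN.conj_mem _ (hXN hx) _
    have h7 := (Lib.Cores.pCore_normal (G := H) p).conj_mem _ (h4 ⟨h5, h6⟩) g
    have h8 : g * ((MulAut.conj g)⁻¹ • x) * g⁻¹ = x := by
      rw [← map_inv, MulAut.smul_def, MulAut.conj_apply]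
      group
    rwa [h8] at h7
  have h3 : (T : Subgroup H) ≤ normalizer (((T : Subgroup H) ⊓ N : Subgroup H) : Set H) := by
    intro t ht
    rw [mem_normalizer_iff]
    intro x
    rw [mem_inf, mem_inf]
    have e : t⁻¹ * (t * x * t⁻¹) * t = x := by group
    constructor
    · rintro ⟨a, b⟩
      exact ⟨mul_mem (mul_mem ht a) (inv_mem ht), hN.conj_mem _ b _⟩
    · rintro ⟨a, b⟩
      refine ⟨?_, ?_⟩
      · have := mul_mem (mul_mem (inv_mem ht) a) ht
        rwa [e] at this
      · have := hN.conj_mem _ b t⁻¹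
        rwa [inv_inv, e] at this
  have h4 := hmax _ h3 h2
  have h5 : ¬ N ≤ M := by
    intro hNM
    apply hM
    rw [← top_le_iff, ← hF]
    exact sup_le h4 hNM
  have h6 : (T : Subgroup H) ⊔ N = ⊤ := by
    by_contra hne
    exact h5 (le_sup_right.trans (hmax _ le_sup_left hne))
  have h7 : pResidual p H ≤ N ⊔ (T : Subgroup H) := by rw [sup_comm, h6]; exact le_top
  exact pResidual_le_of_le_sup T.isPGroup' h7

/-- quotients of `T`-minimal groups -/
theorem quotient_min {T : Sylow p H} (hmin : IsMinimalOver (T : Subgroup H)) (N : Subgroup H) [hN : N.Normal] :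
    IsPGroup p (H ⧸ N) ∨ IsMinimalOver ((T : Subgroup H).map (QuotientGroup.mk' N)) := by
  obtain ⟨h1, M, hM, hTM, hmax⟩ := isMinimalOver_iff.1 hmin
  by_cases hTN : (T : Subgroup H) ⊔ N = ⊤
  · left
    have h2 : (T : Subgroup H).map (QuotientGroup.mk' N) = ⊤ := by
      have h3 : ((T : Subgroup H) ⊔ N).map (QuotientGroup.mk' N) = ⊤ := by
        rw [hTN]
        exact map_top_of_surjective _ (QuotientGroup.mk'_surjective N)
      rwa [Subgroup.map_sup, QuotientGroup.map_mk'_self, sup_bot_eq] at h3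
    have h4 : IsPGroup p ↥(⊤ : Subgroup (H ⧸ N)) := by
      rw [← h2]
      exact T.isPGroup'.map _
    exact h4.of_equiv Subgroup.topEquiv
  · right
    have hNM : N ≤ M := le_sup_right.trans (hmax _ le_sup_left hTN)
    have hs := QuotientGroup.mk'_surjective N
    refine isMinimalOver_iff.2 ⟨?_, M.map (QuotientGroup.mk' N), ?_, map_mono hTM, fun K hK hKt => ?_⟩
    · rw [coe_map, ← map_normalClosure _ _ hs, h1]
      exact map_top_of_surjective _ hs
    · intro h
      apply hM
      have h2 : (M.map (QuotientGroup.mk' N)).comap (QuotientGroup.mk' N) = M := by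
        rw [comap_map_eq, QuotientGroup.ker_mk']
        exact sup_eq_left.2 hNM
      rw [← h2, h, comap_top]
    · have h2 := hmax (K.comap (QuotientGroup.mk' N)) (map_le_iff_le_comap.1 hK) (by
        intro h
        apply hKt
        rw [← map_comap_eq_self_of_surjective hs K, h]
        exact map_top_of_surjective _ hs)
      rw [← map_comap_eq_self_of_surjective hs K]
      exact map_mono h2

/-! ### `p`-irreducible groups and their Sylow subgroups -/

theorem normalClosure_sylow (hH : IsPIrreducible p H) (T : Sylow p H) :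
    normalClosure ((T : Subgroup H) : Set H) = ⊤ := by
  have h1 : pResidual p H ≤ normalClosure ((T : Subgroup H) : Set H) := by
    apply hH.2 _ normalClosure_normal
    intro hc
    rw [isPClosed_normal_iff normalClosure_normal] at hc
    exact hH.1 ((isPClosed_iff_sylow T).2 (hc _ le_normalClosure T.isPGroup'))
  rw [← top_le_iff, ← Transfer.Residual.pResidual_sup_sylow T]
  exact sup_le h1 le_normalClosure

theorem commutator_sup_sylow (hH : IsPIrreducible p H) (T : Sylow p H) :
    commutator H ⊔ (T : Subgroup H) = ⊤ := by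
  have hn : (commutator H ⊔ (T : Subgroup H)).Normal := Subgroup.Normal.of_commutator_le H le_sup_left
  rw [← top_le_iff, ← normalClosure_sylow hH T]
  exact normalClosure_le_normal (le_sup_right (a := commutator H))

theorem pResidual_le_commutator (hH : IsPIrreducible p H) : pResidual p H ≤ commutator H := by
  obtain ⟨T⟩ := (inferInstance : Nonempty (Sylow p H))
  exact pResidual_le_of_le_sup T.isPGroup' (by rw [commutator_sup_sylow hH T]; exact le_top)

theorem commutator_pResidual (hH : IsPIrreducible p H) (T : Sylow p H) {Y : Subgroup H} (hYT : Y ≤ (T : Subgroup H))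
    (hTY : (T : Subgroup H) ≤ normalizer (Y : Set H)) (hY : ¬ Y ≤ pCore p H) :
    ⁅pResidual p H, Y⁆ = pResidual p H := by
  have hO := TwoFusion.PResidual.pResidual_normal (G := H) p
  have hYp : IsPGroup p ↥Y := T.isPGroup'.to_le hYT
  set K := ⁅pResidual p H, Y⁆ with hK
  have hKO : K ≤ pResidual p H := commutator_le_left _ _
  have hgen : ∀ X : Subgroup H, pResidual p H ≤ normalizer (X : Set H) → (T : Subgroup H) ≤ normalizer (X : Set H) →
      X.Normal := by
    intro X h1 h2
    rw [← normalizer_eq_top_iff, ← top_le_iff, ← Transfer.Residual.pResidual_sup_sylow T]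
    exact sup_le h1 h2
  have hTO : (T : Subgroup H) ≤ normalizer (pResidual p H : Set H) := by
    rw [normalizer_eq_top_iff.2 hO]; exact le_top
  have hTK : (T : Subgroup H) ≤ normalizer (K : Set H) := le_normalizer_commutator hTO hTY
  have hKn : K.Normal := hgen K (normalizer_commutator_ge_left _ _) hTK
  have hKY : (K ⊔ Y).Normal :=
    hgen _ (le_normalizer_sup_of_commutator_le (normalizer_commutator_ge_left _ _) le_rfl)
      (le_normalizer_sup hTK hTY)
  have h1 : pResidual p H ≤ K ⊔ Y := by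
    apply hH.2 _ hKY
    intro hc
    rw [isPClosed_normal_iff hKY] at hc
    exact hY (hc Y le_sup_right hYp)
  exact le_antisymm hKO (pResidual_le_of_le_sup hYp h1)

theorem pResidual_le_normalClosure (hH : IsPIrreducible p H) {Y : Subgroup H} (hYp : IsPGroup p ↥Y)
    (hY : ¬ Y ≤ pCore p H) : pResidual p H ≤ normalClosure (Y : Set H) := by
  apply hH.2 _ normalClosure_normal
  intro hc
  rw [isPClosed_normal_iff normalClosure_normal] at hc
  exact hY (hc _ le_normalClosure hYp)

/-! ### passing to `H / D`, `D` a normal `p`-subgroup -/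

section Quot

variable (D : Subgroup H) [D.Normal]

theorem pCore_map_eq (hD : IsPGroup p ↥D) : (pCore p H).map (QuotientGroup.mk' D) = pCore p (H ⧸ D) := by
  rw [← Lib.Cores.comap_mk_pCore p hD, map_comap_eq_self_of_surjective (QuotientGroup.mk'_surjective D)]

theorem isPClosed_quotient_iff (hD : IsPGroup p ↥D) : IsPClosed p (H ⧸ D) ↔ IsPClosed p H := by
  rw [isPClosed_iff, isPClosed_iff]
  constructor
  · intro h T hT
    have h1 := h (T.map (QuotientGroup.mk' D)) (hT.map _)
    rw [map_le_iff_le_comap, Lib.Cores.comap_mk_pCore p hD] at h1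
    exact h1
  · intro h T hT
    have h1 := h (T.comap (QuotientGroup.mk' D)) (hT.comap_of_ker_isPGroup _ (by rw [QuotientGroup.ker_mk']; exact hD))
    have h2 := map_mono (f := QuotientGroup.mk' D) h1
    rwa [map_comap_eq_self_of_surjective (QuotientGroup.mk'_surjective D), pCore_map_eq D hD] at h2

/-- images: `O^p (H) ≤ N D` iff `O^p (H) ≤ N` -/
theorem pResidual_le_map_iff (hD : IsPGroup p ↥D) {N : Subgroup H} (hN : N.Normal) :
    pResidual p (H ⧸ D) ≤ N.map (QuotientGroup.mk' D) ↔ pResidual p H ≤ N := by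
  have hs := QuotientGroup.mk'_surjective D
  rw [← Transfer.Residual.map_pResidual_of_surjective (QuotientGroup.mk' D) hs]
  constructor
  · intro h
    rw [map_le_iff_le_comap, comap_map_eq, QuotientGroup.ker_mk'] at h
    exact pResidual_le_of_le_sup hD h
  · intro h
    exact map_mono h

/-- a normal subgroup `N` is `p`-closed iff its image modulo `D` is -/
theorem isPClosed_map_iff (hD : IsPGroup p ↥D) {N : Subgroup H} (hN : N.Normal) :
    IsPClosed p ↥(N.map (QuotientGroup.mk' D)) ↔ IsPClosed p ↥N := by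
  have hs := QuotientGroup.mk'_surjective D
  rw [isPClosed_normal_iff hN, isPClosed_normal_iff (hN.map _ hs)]
  constructor
  · intro h T hTN hT
    have h1 := h (T.map (QuotientGroup.mk' D)) (map_mono hTN) (hT.map _)
    rw [map_le_iff_le_comap, Lib.Cores.comap_mk_pCore p hD] at h1
    exact h1
  · intro h T hTN hT
    have h0 : IsPGroup p ↥(T.comap (QuotientGroup.mk' D)) :=
      hT.comap_of_ker_isPGroup _ (by rw [QuotientGroup.ker_mk']; exact hD)
    have h1 : N ⊓ T.comap (QuotientGroup.mk' D) ≤ pCore p H := h _ inf_le_left (h0.to_le inf_le_right)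
    intro t ht
    obtain ⟨n, hn, rfl⟩ := hTN ht
    rw [← pCore_map_eq D hD]
    exact mem_map_of_mem _ (h1 ⟨hn, ht⟩)

theorem isPIrreducible_quotient_iff (hD : IsPGroup p ↥D) : IsPIrreducible p H ↔ IsPIrreducible p (H ⧸ D) := by
  have hs := QuotientGroup.mk'_surjective D
  constructor
  · rintro ⟨h1, h2⟩
    refine ⟨fun h => h1 ((isPClosed_quotient_iff D hD).1 h), fun N hN hc => ?_⟩
    have hN' : (N.comap (QuotientGroup.mk' D)).Normal := hN.comap _
    rw [← map_comap_eq_self_of_surjective hs N] at hc ⊢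
    rw [isPClosed_map_iff D hD hN'] at hc
    exact (pResidual_le_map_iff D hD hN').2 (h2 _ hN' hc)
  · rintro ⟨h1, h2⟩
    refine ⟨fun h => h1 ((isPClosed_quotient_iff D hD).2 h), fun N hN hc => ?_⟩
    rw [← isPClosed_map_iff D hD hN] at hc
    exact (pResidual_le_map_iff D hD hN).1 (h2 _ (hN.map _ hs) hc)

theorem commutator_map_le_iff (hD : IsPGroup p ↥D) {N : Subgroup H} :
    ⁅N.map (QuotientGroup.mk' D), (⊤ : Subgroup (H ⧸ D))⁆ ≤ pCore p (H ⧸ D) ↔ ⁅N, (⊤ : Subgroup H)⁆ ≤ pCore p H := by
  have hs := QuotientGroup.mk'_surjective D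
  rw [← map_top_of_surjective _ hs, ← map_commutator, map_le_iff_le_comap, Lib.Cores.comap_mk_pCore p hD]

theorem isStronglyPIrreducible_quotient_iff (hD : IsPGroup p ↥D) :
    IsStronglyPIrreducible p H ↔ IsStronglyPIrreducible p (H ⧸ D) := by
  have hs := QuotientGroup.mk'_surjective D
  constructor
  · rintro ⟨h1, h2⟩
    refine ⟨fun h => h1 ((isPClosed_quotient_iff D hD).1 h), fun N hN hc => ?_⟩
    have hN' : (N.comap (QuotientGroup.mk' D)).Normal := hN.comap _
    rw [← map_comap_eq_self_of_surjective hs N] at hc ⊢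
    rw [commutator_map_le_iff D hD] at hc
    exact (pResidual_le_map_iff D hD hN').2 (h2 _ hN' hc)
  · rintro ⟨h1, h2⟩
    refine ⟨fun h => h1 ((isPClosed_quotient_iff D hD).2 h), fun N hN hc => ?_⟩
    rw [← commutator_map_le_iff D hD] at hc
    exact (pResidual_le_map_iff D hD hN).1 (h2 _ (hN.map _ hs) hc)

end Quot

end Fin

end Cfsg.Agent.H990.PIrr
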