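import Mathlib
import Cfsg.Agent.H990.PIrr
set_option linter.all false

/-!
# `Y`-minimal groups: S2835
-/

set_option autoImplicit false
set_option linter.unusedSectionVars false

open Subgroup Cfsg
open scoped Pointwise

namespace Cfsg.Agent.H990.MinOver

open Cfsg.Agent.H990.Norm Cfsg.Agent.H990.PClosed Cfsg.Agent.H990.PIrr

variable {L : Type*} [Group L] [Finite L]

structure Data (Y M : Subgroup L) : Prop where
  gen : normalClosure (Y : Set L) = ⊤
  ne : M ≠ ⊤
  le : Y ≤ M
  max : ∀ K : Subgroup L, Y ≤ K → K ≠ ⊤ → K ≤ M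

theorem exists_data {Y : Subgroup L} (h : IsMinimalOver Y) : ∃ M, Data Y M := by
  obtain ⟨h1, M, h2, h3, h4⟩ := isMinimalOver_iff.1 h
  exact ⟨M, h1, h2, h3, h4⟩

theorem data_of_coatom {Y M : Subgroup L} (h : IsMinimalOver Y) (hM : IsCoatom M) (hYM : Y ≤ M) : Data Y M := by
  obtain ⟨M', h'⟩ := exists_data h
  have h1 := h'.max M hYM hM.1
  have h2 : M' = M := ((hM.le_iff.1 h1).resolve_left h'.ne)
  rw [← h2]
  exact h'

namespace Data

variable {Y M : Subgroup L} (h : Data Y M)
include h

theorem not_le_normal {N : Subgroup L} (hN : N.Normal) (hNt : N ≠ ⊤) : ¬ Y ≤ N := by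
  intro hYN
  apply hNt
  rw [← top_le_iff, ← h.gen]
  exact normalClosure_le_normal hYN

theorem cj_eq {g : L} (hg : Y ≤ MulAut.conj g • M) : MulAut.conj g • M = M := by
  have h1 : MulAut.conj g • M ≠ ⊤ := by
    intro e
    apply h.ne
    apply cj_inj (g := g)
    rw [e, cj_top]
  have h2 := h.max _ hg h1
  apply Subgroup.eq_of_le_of_card_ge h2
  exact le_of_eq (Nat.card_congr (Subgroup.equivSMul (MulAut.conj g) M).toEquiv)

theorem normalizer_eq : normalizer (M : Set L) = M := by
  apply le_antisymm _ le_normalizer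
  apply h.max _ (h.le.trans le_normalizer)
  intro e
  exact h.not_le_normal (normalizer_eq_top_iff.1 e) h.ne h.le

theorem mem_of_cj {g : L} (hg : Y ≤ MulAut.conj g • M) : g ∈ M := by
  rw [← h.normalizer_eq, mem_normalizer_iff_cj]
  exact h.cj_eq hg

theorem normalizer_le {T : Subgroup L} (hYT : Y ≤ T) (hTM : T ≤ M) : normalizer (T : Set L) ≤ M := by
  apply h.max _ (hYT.trans le_normalizer)
  intro e
  exact h.not_le_normal (normalizer_eq_top_iff.1 e) (fun e' => h.ne (by rw [← top_le_iff, ← e']; exact hTM)) hYT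

theorem sup_cj {g : L} (hg : g ∉ M) : Y ⊔ MulAut.conj g • Y = ⊤ := by
  by_contra hne
  apply hg
  have h1 := h.max _ le_sup_left hne
  have h2 : Y ≤ MulAut.conj g⁻¹ • M := by
    rw [← cj_le_iff]; exact le_sup_right.trans h1
  have := h.mem_of_cj h2
  exact inv_mem_iff.1 this

theorem inf_cj [IsMulCommutative ↥Y] {g : L} (hg : g ∉ M) : Y ⊓ MulAut.conj g • Y = Y ⊓ center L := by
  apply le_antisymm
  · refine le_inf inf_le_left ?_
    have h1 : (⊤ : Subgroup L) ≤ centralizer ((Y ⊓ MulAut.conj g • Y : Subgroup L) : Set L) := by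
      rw [← h.sup_cj hg]
      refine sup_le ?_ ?_
      · refine le_trans ?_ (centralizer_le (t := (Y : Set L)) inf_le_left)
        exact le_centralizer Y
      · refine le_trans ?_ (centralizer_le (t := ((MulAut.conj g • Y : Subgroup L) : Set L)) inf_le_right)
        rw [← cj_centralizer]
        exact cj_mono (le_centralizer Y)
    intro x hx
    rw [mem_center_iff]
    intro y
    exact ((mem_centralizer_iff.1 (h1 (mem_top y))) x hx).symm
  · refine le_inf inf_le_left ?_
    rintro x ⟨hx1, hx2⟩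
    rw [mem_cj]
    have : g⁻¹ * x * g = x := by
      rw [mul_assoc, ← mem_center_iff.1 hx2 g]; group
    rwa [this]

theorem pCore_le {p : ℕ} [Fact p.Prime] (hY : IsPGroup p Y) : pCore p L ≤ M := by
  have hn := Lib.Cores.pCore_normal (G := L) p
  by_cases e : Y ⊔ pCore p L = ⊤
  · exfalso
    have h1 : IsPGroup p ↥(Y ⊔ pCore p L) := hY.to_sup_of_normal_right (Lib.Cores.pCore_isPGroup p)
    have h3 : IsPGroup p ↥(⊤ : Subgroup L) := by rw [← e]; exact h1
    have h2 : M = ⊤ := eq_of_normalizer_le h3 le_top (by rw [inf_top_eq, h.normalizer_eq])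
    exact h.ne h2
  · exact le_sup_right.trans (h.max _ le_sup_left e)

end Data

end Cfsg.Agent.H990.MinOver
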