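import Mathlib
import Cfsg.Prelude.Def_Solvable
import Cfsg.Agent.Lib.Cores
import Cfsg.Agent.H990.Norm
import Cfsg.Agent.H990.MinOver
set_option linter.all false

-- part: H990/LLem
section
/-!
# The `L`-Lemma for all primes `p`

(The argument of `Cfsg.Agent.Mrg.Omega.MinFF.LLemma`, there for `p = 2`.)
-/

set_option autoImplicit false
set_option linter.unusedSectionVars false

open Subgroup
open scoped Pointwise

namespace Cfsg.Agent.H990.LLem

open Cfsg.Agent.H990.Norm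

variable {H : Type*} [Group H] {p : ℕ} [hp : Fact p.Prime]

theorem isPGroup_cj {A : Subgroup H} (hA : IsPGroup p A) (g : H) : IsPGroup p (MulAut.conj g • A : Subgroup H) :=
  hA.map _

theorem card_cj (g : H) (A : Subgroup H) : Nat.card (MulAut.conj g • A : Subgroup H) = Nat.card A :=
  (Nat.card_congr (Subgroup.equivSMul (MulAut.conj g) A).toEquiv).symm

theorem coe_smul_sylow (g : H) (P : Sylow p H) : ((g • P : Sylow p H) : Subgroup H) = MulAut.conj g • (P : Subgroup H) :=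
  Sylow.coe_subgroup_smul

/-- a p-subgroup of `K ≥ P` lies in a Sylow p-subgroup `k • P`, `k ∈ K` -/
theorem exists_sylow_le [Finite H] {p : ℕ} [Fact p.Prime] {K R : Subgroup H} (P : Sylow p H) (hPK : (P : Subgroup H) ≤ K)
    (hRK : R ≤ K) (hR : IsPGroup p R) : ∃ k ∈ K, R ≤ ((k • P : Sylow p H) : Subgroup H) := by
  have hR' : IsPGroup p (R.subgroupOf K) := hR.comap_subtype
  obtain ⟨Q, hQ⟩ := hR'.exists_le_sylow
  obtain ⟨k, hk⟩ := MulAction.exists_smul_eq K (P.subtype hPK) Q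
  refine ⟨k, k.2, fun x hx => ?_⟩
  have h1 : (⟨x, hRK hx⟩ : K) ∈ (Q : Subgroup K) := hQ (mem_subgroupOf.2 hx)
  rw [← hk, coe_smul_sylow, mem_cj, Sylow.coe_subtype, mem_subgroupOf] at h1
  rw [coe_smul_sylow, mem_cj]
  exact h1

/-- every Sylow p-subgroup `P` lies in a unique maximal subgroup `M P` -/
structure UM (M : Sylow p H → Subgroup H) : Prop where
  le : ∀ P : Sylow p H, (P : Subgroup H) ≤ M P
  ne : ∀ P : Sylow p H, M P ≠ ⊤
  uniq : ∀ (P : Sylow p H) (K : Subgroup H), (P : Subgroup H) ≤ K → K ≠ ⊤ → K ≤ M P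

namespace UM

variable {M : Sylow p H → Subgroup H} (h : UM M)

include h

theorem eq_of_le {P P' : Sylow p H} (hle : (P' : Subgroup H) ≤ M P) : M P' = M P := by
  have h1 := h.uniq P' (M P) hle (h.ne P)
  exact le_antisymm (h.uniq P (M P') ((h.le P).trans h1) (h.ne P')) h1

theorem conj (P : Sylow p H) (g : H) : M (g • P) = MulAut.conj g • M P := by
  have h1 : ((g • P : Sylow p H) : Subgroup H) ≤ MulAut.conj g • M P := by
    rw [coe_smul_sylow]
    exact cj_mono (h.le P)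
  have h2 : MulAut.conj g • M P ≠ ⊤ := by
    intro e
    apply h.ne P
    apply cj_inj (g := g)
    rw [e, cj_top]
  have h3 := h.uniq _ _ h1 h2
  apply le_antisymm _ h3
  have h4 : (P : Subgroup H) ≤ MulAut.conj g⁻¹ • M (g • P) := by
    rw [← cj_le_iff, ← coe_smul_sylow]
    exact h.le _
  have h5 : MulAut.conj g⁻¹ • M (g • P) ≠ ⊤ := by
    intro e
    apply h.ne (g • P)
    apply cj_inj (g := g⁻¹)
    rw [e, cj_top]
  have h6 := h.uniq _ _ h4 h5
  have h7 := cj_mono (g := g) h6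
  rwa [cj_cj, mul_inv_cancel, cj_one] at h7

end UM

theorem le_pCore {N : Subgroup H} (hN : N.Normal) (h2 : IsPGroup p N) : N ≤ Cfsg.pCore p H :=
  le_sSup ⟨hN, h2⟩

theorem normal_of_normalizer_eq_top {N : Subgroup H} (h : normalizer (N : Set H) = ⊤) : N.Normal :=
  normalizer_eq_top_iff.1 h

section

variable [Finite H] {M : Sylow p H → Subgroup H} (h : UM M) (hO : Cfsg.pCore p H = ⊥)

include hO in
theorem normalizer_ne_top {N : Subgroup H} (h2 : IsPGroup p N) (h1 : N ≠ ⊥) : normalizer (N : Set H) ≠ ⊤ := by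
  intro e
  apply h1
  rw [eq_bot_iff, ← hO]
  exact le_pCore (normal_of_normalizer_eq_top e) h2

include h hO in
theorem UM.self (hT : ∀ P : Sylow p H, (P : Subgroup H) ≠ ⊥) {P : Sylow p H} {g : H}
    (hg : MulAut.conj g • M P = M P) : g ∈ M P := by
  have h1 : ((g • P : Sylow p H) : Subgroup H) ≤ M P := by
    rw [coe_smul_sylow, ← hg]
    exact cj_mono (h.le P)
  obtain ⟨k, hk, hkP⟩ := exists_sylow_le P (h.le P) h1 (g • P).isPGroup'
  have h2 : g • P = k • P := by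
    apply Sylow.ext
    exact (g • P).is_maximal' (k • P).isPGroup' hkP |>.symm
  have h3 : (k⁻¹ * g) • P = P := by rw [mul_smul, h2, smul_smul, inv_mul_cancel, one_smul]
  have h4 : k⁻¹ * g ∈ normalizer ((P : Subgroup H) : Set H) := Sylow.smul_eq_iff_mem_normalizer.1 h3
  have h5 : k⁻¹ * g ∈ M P := h.uniq P _ le_normalizer (normalizer_ne_top hO P.isPGroup' (hT P)) h4
  have := mul_mem hk h5
  rwa [mul_inv_cancel_left] at this

end

/-- the subgroup generated by the conjugates of `A` contained in `X` -/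
def WW (A X : Subgroup H) : Subgroup H := ⨆ (g : H) (_ : MulAut.conj g • A ≤ X), MulAut.conj g • A

theorem WW_le (A X : Subgroup H) : WW A X ≤ X := by
  rw [WW]
  exact iSup_le fun _ => iSup_le fun h => h

theorem WW_le_of {A X Y : Subgroup H} (h : ∀ g : H, MulAut.conj g • A ≤ X → MulAut.conj g • A ≤ Y) : WW A X ≤ Y := by
  rw [WW]
  exact iSup_le fun g => iSup_le fun hg => h g hg

theorem le_WW {A X : Subgroup H} {g : H} (h : MulAut.conj g • A ≤ X) : MulAut.conj g • A ≤ WW A X := by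
  rw [WW]
  exact le_iSup_of_le g (le_iSup_of_le h le_rfl)

theorem WW_mono {A X Y : Subgroup H} (h : X ≤ Y) : WW A X ≤ WW A Y :=
  WW_le_of fun _ h' => le_WW (h'.trans h)

theorem cj_WW_le (A X : Subgroup H) (g : H) : MulAut.conj g • WW A X ≤ WW A (MulAut.conj g • X) := by
  rw [cj_le_iff]
  refine WW_le_of fun k hk => ?_
  rw [← cj_le_iff, cj_cj]
  apply le_WW
  rw [← cj_cj]
  exact cj_mono hk

theorem cj_WW (A X : Subgroup H) (g : H) : MulAut.conj g • WW A X = WW A (MulAut.conj g • X) := by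
  apply le_antisymm (cj_WW_le A X g)
  have h1 := cj_WW_le A (MulAut.conj g • X) g⁻¹
  rw [cj_cj, inv_mul_cancel, cj_one] at h1
  have h2 := cj_mono (g := g) h1
  rwa [cj_cj, mul_inv_cancel, cj_one] at h2

theorem normalizer_le_WW (A X : Subgroup H) : normalizer (X : Set H) ≤ normalizer (WW A X : Set H) := by
  intro g hg
  rw [mem_normalizer_iff_cj] at hg ⊢
  rw [cj_WW, hg]

/-- data delivered by the `L`-lemma -/
structure LData (M : Sylow p H → Subgroup H) (A A₁ L₁ L : Subgroup H) : Prop where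
  cj : ∃ g : H, A₁ = MulAut.conj g • A
  A_le : A₁ ≤ L₁
  L_le : L₁ ≤ L
  ne : L₁ ≠ L
  uniq : ∀ K : Subgroup H, A₁ ≤ K → K ≤ L → K ≠ L → K ≤ L₁
  ti : ∀ l ∈ L, A₁ ≤ MulAut.conj l • L₁ → l ∈ L₁
  fix : ∀ R : Subgroup H, R ≤ L₁ → IsPGroup p R → ∃ P : Sylow p H, R ≤ P ∧ ¬ L ≤ M P

/-- `J` is a maximal p-subgroup generated by conjugates of `A` lying in two different `M P` -/
structure JData (M : Sylow p H → Subgroup H) (A J : Subgroup H) : Prop where
  pg : IsPGroup p J
  gen : J = WW A J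
  two : ∃ P P' : Sylow p H, M P ≠ M P' ∧ J ≤ P ∧ J ≤ P'
  max : ∀ B : Subgroup H, IsPGroup p B → B = WW A B → J < B → ∀ P P' : Sylow p H, B ≤ M P → B ≤ M P' → M P = M P'

/-- the conjugate `A^g` normalises `J` and does not lie in `J` -/
def Mem (A J : Subgroup H) (g : H) : Prop :=
  MulAut.conj g • A ≤ normalizer (J : Set H) ∧ ¬ MulAut.conj g • A ≤ J

/-- `M P` is the owner of `A^g` -/
def Own (M : Sylow p H → Subgroup H) (A J : Subgroup H) (g : H) (P : Sylow p H) : Prop :=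
  MulAut.conj g • A ≤ M P ∧ J ≤ M P

section

variable [Finite H] {M : Sylow p H → Subgroup H}

/-- in a p-group `P`, a subgroup containing its normaliser in `P` is `P` -/
theorem eq_of_normalizer_le {P Y : Subgroup H} (hP : IsPGroup p P) (hY : Y ≤ P)
    (hN : normalizer (Y : Set H) ⊓ P ≤ Y) : Y = P := by
  by_contra hne
  have hlt : Y < P := lt_of_le_of_ne hY hne
  have : Finite P := inferInstance
  have hn : Group.IsNilpotent P := hP.isNilpotent
  have hcond := Group.normalizerCondition_of_isNilpotent (G := P)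
  have h1 : Y.subgroupOf P < ⊤ := by
    rw [lt_top_iff_ne_top]
    intro e
    exact hne (le_antisymm hY (subgroupOf_eq_top.1 e))
  have h2 := hcond _ h1
  obtain ⟨x, hx1, hx2⟩ := SetLike.exists_of_lt h2
  apply hx2
  rw [mem_subgroupOf]
  apply hN
  refine mem_inf.2 ⟨?_, x.2⟩
  rw [mem_normalizer_iff] at hx1 ⊢
  intro y
  constructor
  · intro hy
    have := (hx1 ⟨y, hY hy⟩).1 (mem_subgroupOf.2 hy)
    exact mem_subgroupOf.1 this
  · intro hy
    have hyP : y ∈ P := by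
      have h3 := P.mul_mem (P.mul_mem (P.inv_mem x.2) (hY hy)) x.2
      have e : (x : H)⁻¹ * ((x : H) * y * (x : H)⁻¹) * (x : H) = y := by group
      rwa [e] at h3
    have := (hx1 ⟨y, hyP⟩).2 (mem_subgroupOf.2 hy)
    exact mem_subgroupOf.1 this

theorem growth {A B : Subgroup H} (P : Sylow p H) (hBP : B ≤ P) (hB : B = WW A B) (hne : B ≠ WW A P) :
    ∃ g : H, MulAut.conj g • A ≤ normalizer (B : Set H) ⊓ P ∧ ¬ MulAut.conj g • A ≤ B := by
  by_contra hcon
  push Not at hcon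
  have h1 : WW A (normalizer (B : Set H) ⊓ P) = B := by
    apply le_antisymm (WW_le_of fun g hg => hcon g hg)
    conv_lhs => rw [hB]
    exact WW_mono (le_inf le_normalizer hBP)
  have h2 : (normalizer (B : Set H) ⊓ P : Subgroup H) = P := by
    apply eq_of_normalizer_le P.isPGroup' inf_le_right
    refine le_inf ?_ inf_le_right
    intro x hx
    have := normalizer_le_WW A _ hx.1
    rwa [h1] at this
  rw [h2] at h1
  exact hne h1.symm

theorem exists_cj_le {A : Subgroup H} (hA : IsPGroup p A) (P : Sylow p H) : ∃ g : H, MulAut.conj g • A ≤ (P : Subgroup H) := by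
  obtain ⟨Q, hQ⟩ := hA.exists_le_sylow
  obtain ⟨x, hx⟩ := MulAction.exists_smul_eq H Q P
  refine ⟨x, ?_⟩
  rw [← hx, coe_smul_sylow]
  exact cj_mono hQ

theorem cj_ne_bot {A : Subgroup H} (hA1 : A ≠ ⊥) (g : H) : MulAut.conj g • A ≠ ⊥ := by
  intro e
  apply hA1
  apply cj_inj (g := g)
  rw [e, cj_bot]

theorem sylow_ne_bot {A : Subgroup H} (hA : IsPGroup p A) (hA1 : A ≠ ⊥) (P : Sylow p H) : (P : Subgroup H) ≠ ⊥ := by
  intro e
  obtain ⟨g, hg⟩ := exists_cj_le hA P
  rw [e, le_bot_iff] at hg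
  exact cj_ne_bot hA1 g hg

theorem eq_of_WW_le (h : UM M) (hO : Cfsg.pCore p H = ⊥) {A : Subgroup H} (hA : IsPGroup p A) (hA1 : A ≠ ⊥)
    {P P' : Sylow p H} (hle : WW A P ≤ M P') : M P = M P' := by
  have hWp : ∀ Q : Sylow p H, IsPGroup p (WW A Q : Subgroup H) := fun Q => Q.isPGroup'.to_le (WW_le A Q)
  obtain ⟨k, hk, hkP⟩ := exists_sylow_le P' (h.le P') hle (hWp P)
  set P'' := k • P' with hP''
  have hM : M P'' = M P' := by
    rw [hP'', h.conj, cj_of_mem hk]
  obtain ⟨g, hg⟩ := MulAction.exists_smul_eq H P P''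
  have hcard : Nat.card (WW A (P'' : Subgroup H)) = Nat.card (WW A (P : Subgroup H)) := by
    rw [← hg, coe_smul_sylow, ← cj_WW, card_cj]
  have h1 : WW A (P : Subgroup H) ≤ WW A (P'' : Subgroup H) := WW_le_of fun x hx => le_WW ((le_WW hx).trans hkP)
  have h2 : WW A (P : Subgroup H) = WW A (P'' : Subgroup H) := eq_of_le_of_card_ge h1 hcard.le
  have hne : WW A (P : Subgroup H) ≠ ⊥ := by
    obtain ⟨x, hx⟩ := exists_cj_le hA P
    intro e
    have h4 := le_WW hx
    rw [e, le_bot_iff] at h4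
    exact cj_ne_bot hA1 x h4
  have hN : normalizer (WW A (P : Subgroup H) : Set H) ≠ ⊤ := normalizer_ne_top hO (hWp P) hne
  have h3 : (P : Subgroup H) ≤ normalizer (WW A (P : Subgroup H) : Set H) :=
    le_normalizer.trans (normalizer_le_WW A _)
  have h4 : (P'' : Subgroup H) ≤ normalizer (WW A (P : Subgroup H) : Set H) := by
    rw [h2]
    exact le_normalizer.trans (normalizer_le_WW A _)
  have h5 := h.uniq P _ h3 hN
  have h6 := h.eq_of_le (h4.trans h5)
  rw [← h6, hM]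

theorem exists_J (h : UM M) (hO : Cfsg.pCore p H = ⊥) {A : Subgroup H} (hA : IsPGroup p A) (hA1 : A ≠ ⊥) :
    ∃ J, JData M A J := by
  have hT := sylow_ne_bot hA hA1
  have hex : ∃ P P' : Sylow p H, M P ≠ M P' := by
    by_contra hcon
    push Not at hcon
    obtain ⟨P⟩ := (inferInstance : Nonempty (Sylow p H))
    apply h.ne P
    rw [eq_top_iff]
    intro x _
    apply h.self hO hT
    rw [← h.conj]
    exact hcon _ _
  let S : Set (Subgroup H) := {B | IsPGroup p B ∧ B = WW A B ∧ ∃ P P' : Sylow p H, M P ≠ M P' ∧ B ≤ M P ∧ B ≤ M P'}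
  have hSne : S.Nonempty := by
    obtain ⟨P, P', hPP⟩ := hex
    exact ⟨⊥, IsPGroup.of_bot, le_antisymm bot_le (WW_le A ⊥), P, P', hPP, bot_le, bot_le⟩
  obtain ⟨B, hB⟩ := (Set.toFinite S).exists_maximal hSne
  obtain ⟨hBp, hBW, P₁, P₂, hPP, hB1, hB2⟩ := hB.prop
  refine ⟨B, hBp, hBW, ?_, ?_⟩
  · obtain ⟨k₁, hk₁, h1⟩ := exists_sylow_le P₁ (h.le P₁) hB1 hBp
    obtain ⟨k₂, hk₂, h2⟩ := exists_sylow_le P₂ (h.le P₂) hB2 hBp
    refine ⟨k₁ • P₁, k₂ • P₂, ?_, h1, h2⟩
    rw [h.conj, h.conj, cj_of_mem hk₁, cj_of_mem hk₂]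
    exact hPP
  · intro B' h1 h2 h3 P P' h4 h5
    by_contra hne
    exact hB.not_prop_of_gt h3 ⟨h1, h2, P, P', hne, h4, h5⟩

namespace JData

variable {A J : Subgroup H} (hJ : JData M A J)
include hJ

omit [Finite H] in
theorem sup_mem {g : H} (hA : IsPGroup p A) (hg : Mem A J g) : IsPGroup p (J ⊔ MulAut.conj g • A : Subgroup H) ∧
    (J ⊔ MulAut.conj g • A : Subgroup H) = WW A (J ⊔ MulAut.conj g • A : Subgroup H) ∧
    J < J ⊔ MulAut.conj g • A := by
  refine ⟨?_, ?_, ?_⟩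
  · rw [sup_comm]
    exact IsPGroup.to_sup_of_normal_right' (isPGroup_cj hA g) hJ.pg hg.1
  · apply le_antisymm _ (WW_le _ _)
    apply sup_le
    · conv_lhs => rw [hJ.gen]
      exact WW_mono le_sup_left
    · exact le_WW le_sup_right
  · refine lt_of_le_of_ne le_sup_left fun e => hg.2 ?_
    rw [e]
    exact le_sup_right

omit [Finite H] in
theorem own_unique (hA : IsPGroup p A) {g : H} (hg : Mem A J g) {P P' : Sylow p H} (h1 : Own M A J g P)
    (h2 : Own M A J g P') : M P = M P' := by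
  obtain ⟨h5, h6, h7⟩ := hJ.sup_mem hA hg
  exact hJ.max _ h5 h6 h7 P P' (sup_le h1.2 h1.1) (sup_le h2.2 h2.1)

theorem exists_own (h : UM M) (hA : IsPGroup p A) {g : H} (hg : Mem A J g) : ∃ P, Own M A J g P := by
  obtain ⟨h5, -, -⟩ := hJ.sup_mem hA hg
  obtain ⟨P, hP⟩ := h5.exists_le_sylow
  exact ⟨P, le_sup_right.trans (hP.trans (h.le P)), le_sup_left.trans (hP.trans (h.le P))⟩

omit hJ [Finite H] in
theorem mem_mul {g l : H} (hg : Mem A J g) (hl : l ∈ normalizer (J : Set H)) : Mem A J (l * g) := by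
  have hl' := mem_normalizer_iff_cj.1 hl
  constructor
  · rw [← cj_cj]
    intro x hx
    rw [mem_cj] at hx
    have h1 := hg.1 hx
    have h2 := mul_mem (mul_mem hl h1) (inv_mem hl)
    have e : l * (l⁻¹ * x * l) * l⁻¹ = x := by group
    rwa [e] at h2
  · intro hle
    apply hg.2
    rw [← cj_cj, ← hl'] at hle
    rw [cj_le_iff, cj_cj, inv_mul_cancel, cj_one] at hle
    exact hle

omit hJ [Finite H] in
theorem own_mul (h : UM M) {g l : H} {P : Sylow p H} (hP : Own M A J g P) (hl : l ∈ normalizer (J : Set H)) :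
    Own M A J (l * g) (l • P) := by
  constructor
  · rw [h.conj, ← cj_cj]
    exact cj_mono hP.1
  · rw [h.conj, ← mem_normalizer_iff_cj.1 hl]
    exact cj_mono hP.2

/-- two members with different owners -/
theorem exists_members (h : UM M) (hO : Cfsg.pCore p H = ⊥) (hA : IsPGroup p A) (hA1 : A ≠ ⊥) :
    ∃ a b : H, ∃ P P' : Sylow p H, Mem A J a ∧ Mem A J b ∧ Own M A J a P ∧ Own M A J b P' ∧ M P ≠ M P' := by
  have key : ∀ P P' : Sylow p H, M P ≠ M P' → J ≤ P → J ≤ P' → ∃ g, Mem A J g ∧ Own M A J g P := by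
    intro P P' hne h1 h2
    have hneW : J ≠ WW A P := by
      intro e
      apply hne
      apply eq_of_WW_le h hO hA hA1
      rw [← e]
      exact h2.trans (h.le _)
    obtain ⟨g, hg1, hg2⟩ := growth P h1 hJ.gen hneW
    exact ⟨g, ⟨hg1.trans inf_le_left, hg2⟩, (hg1.trans inf_le_right).trans (h.le _), h1.trans (h.le _)⟩
  obtain ⟨P₁, P₂, hPP, hB1, hB2⟩ := hJ.two
  obtain ⟨g₁, hg₁, h₁⟩ := key P₁ P₂ hPP hB1 hB2
  obtain ⟨g₂, hg₂, h₂⟩ := key P₂ P₁ hPP.symm hB2 hB1
  exact ⟨g₁, g₂, P₁, P₂, hg₁, hg₂, h₁, h₂, hPP⟩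

/-- **the `L`-lemma**: two members of `K` with different owners give `L ≤ K` -/
theorem exists_L (h : UM M) (hO : Cfsg.pCore p H = ⊥) (hA : IsPGroup p A) (hA1 : A ≠ ⊥) {K : Subgroup H} {a₀ b₀ : H}
    {P₀ P₀' : Sylow p H} (ha₀ : Mem A J a₀) (hb₀ : Mem A J b₀) (hP₀ : Own M A J a₀ P₀) (hP₀' : Own M A J b₀ P₀')
    (hne₀ : M P₀ ≠ M P₀') (haK : MulAut.conj a₀ • A ≤ K) (hbK : MulAut.conj b₀ • A ≤ K) :
    ∃ a b : H, ∃ P P' : Sylow p H, Mem A J a ∧ Mem A J b ∧ Own M A J a P ∧ Own M A J b P' ∧ M P ≠ M P' ∧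
      (MulAut.conj a • A ⊔ MulAut.conj b • A : Subgroup H) ≤ K ∧
      LData M A (MulAut.conj a • A) ((MulAut.conj a • A ⊔ MulAut.conj b • A) ⊓ M P) (MulAut.conj a • A ⊔ MulAut.conj b • A) := by
  have hT := sylow_ne_bot hA hA1
  let T : Set (H × H) := {x | Mem A J x.1 ∧ Mem A J x.2 ∧ (∃ P P' : Sylow p H, M P ≠ M P' ∧ Own M A J x.1 P ∧
    Own M A J x.2 P') ∧ MulAut.conj x.1 • A ≤ K ∧ MulAut.conj x.2 • A ≤ K}
  have hTne : T.Nonempty := ⟨(a₀, b₀), ha₀, hb₀, ⟨P₀, P₀', hne₀, hP₀, hP₀'⟩, haK, hbK⟩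
  obtain ⟨⟨a, b⟩, ⟨ha, hb, ⟨P, P', hne, hP, hP'⟩, haK', hbK'⟩, hmin⟩ :=
    Set.exists_min_image T (fun x => Nat.card (MulAut.conj x.1 • A ⊔ MulAut.conj x.2 • A : Subgroup H)) (Set.toFinite T) hTne
  refine ⟨a, b, P, P', ha, hb, hP, hP', hne, sup_le haK' hbK', ?_⟩
  dsimp only at haK' hbK' ha hb hP hP'
  set L : Subgroup H := MulAut.conj a • A ⊔ MulAut.conj b • A with hL
  have hLN : L ≤ normalizer (J : Set H) := sup_le ha.1 hb.1
  have hLK : L ≤ K := sup_le haK' hbK'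
  have hself : ∀ l ∈ normalizer (J : Set H), MulAut.conj (l * a) • A ≤ M P → l ∈ M P := by
    intro l hl hle
    apply h.self hO hT
    rw [← h.conj]
    exact hJ.own_unique hA (mem_mul ha hl) (own_mul h hP hl) ⟨hle, hP.2⟩
  have hLM : ¬ L ≤ M P := by
    intro hle
    exact hne (hJ.own_unique hA hb ⟨le_sup_right.trans hle, hP.2⟩ hP')
  have huniq : ∀ K' : Subgroup H, MulAut.conj a • A ≤ K' → K' ≤ L → K' ≠ L → K' ≤ L ⊓ M P := by
    intro K' hAK hKL hKne
    refine le_inf hKL fun l hl => ?_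
    have hlN : l ∈ normalizer (J : Set H) := hLN (hKL hl)
    apply hself l hlN
    by_contra hcon
    obtain ⟨P'', h1⟩ := hJ.exists_own h hA (mem_mul ha hlN)
    have hne' : M P ≠ M P'' := by
      intro e
      apply hcon
      rw [e]
      exact h1.1
    have h5 : MulAut.conj a • A ⊔ MulAut.conj (l * a) • A ≤ K' := by
      apply sup_le hAK
      rw [← cj_cj, ← cj_of_mem hl]
      exact cj_mono hAK
    have h3 : (a, l * a) ∈ T := ⟨ha, mem_mul ha hlN, ⟨P, P'', hne', hP, h1⟩, haK',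
      (le_sup_right.trans h5).trans (hKL.trans hLK)⟩
    have h4 := hmin _ h3
    have h6 : Nat.card (MulAut.conj a • A ⊔ MulAut.conj (l * a) • A : Subgroup H) ≤ Nat.card K' :=
      Nat.card_le_card_of_injective (inclusion h5) (inclusion_injective h5)
    have h7 : Nat.card K' < Nat.card L := by
      by_contra hc
      push Not at hc
      exact hKne (eq_of_le_of_card_ge hKL hc)
    exact absurd (lt_of_le_of_lt h6 h7) (not_lt.2 h4)
  refine ⟨⟨a, rfl⟩, le_inf le_sup_left hP.1, inf_le_left, ?_, huniq, ?_, ?_⟩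
  · intro e
    exact hLM (inf_eq_left.1 e)
  · intro l hl hle
    refine mem_inf.2 ⟨hl, ?_⟩
    have hlN := hLN hl
    have h1 : MulAut.conj (l⁻¹ * a) • A ≤ M P := by
      rw [← cj_cj, cj_le_iff, inv_inv]
      exact hle.trans (cj_mono inf_le_right)
    have := hself l⁻¹ (inv_mem hlN) h1
    exact inv_mem_iff.1 this
  · intro R hR hR2
    obtain ⟨k, hk, hkR⟩ := exists_sylow_le P (h.le P) (hR.trans inf_le_right) hR2
    refine ⟨k • P, hkR, ?_⟩
    rw [h.conj, cj_of_mem hk]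
    exact hLM

end JData

end

end Cfsg.Agent.H990.LLem
end

-- part: H990/LLemma
section
/-!
# The `L`-Lemma, lifted: S2834
-/

set_option autoImplicit false
set_option linter.unusedSectionVars false

open Subgroup
open scoped Pointwise

namespace Cfsg.Agent.H990.LLem

open Cfsg.Agent.H990.Norm

variable {X : Type*} [Group X] {p : ℕ} [hp : Fact p.Prime]

theorem map_cj {H : Type*} [Group H] (f : X →* H) (g : X) (A : Subgroup X) :
    (MulAut.conj g • A).map f = MulAut.conj (f g) • A.map f := by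
  ext h
  rw [mem_cj, mem_map, mem_map]
  constructor
  · rintro ⟨x, hx, rfl⟩
    rw [mem_cj] at hx
    exact ⟨_, hx, by simp⟩
  · rintro ⟨x, hx, he⟩
    refine ⟨g * x * g⁻¹, conj_mem_cj hx, ?_⟩
    rw [map_mul, map_mul, he, map_inv]; group

theorem comap_cj {H : Type*} [Group H] (f : X →* H) (g : X) (A : Subgroup H) :
    (MulAut.conj (f g) • A).comap f = MulAut.conj g • A.comap f := by
  ext x
  rw [mem_cj, mem_comap, mem_comap, mem_cj, map_mul, map_mul, map_inv]

theorem exists_lifted [Finite X] (S : Sylow p X) (N : Subgroup X) (hS : (S : Subgroup X) ≤ N) (hN : N ≠ ⊤)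
    (uniq : ∀ K : Subgroup X, (S : Subgroup X) ≤ K → K ≠ ⊤ → K ≤ N) {A : Subgroup X} (hA : IsPGroup p A)
    (hQ : ¬ A ≤ Cfsg.pCore p X) : ∃ (y : X) (L L₀ : Subgroup X), L₀ = L ⊓ MulAut.conj y • N ∧ A ≤ L₀ ∧
      Cfsg.pCore p X ≤ L₀ ∧ L₀ ≠ L ∧
      (∀ K : Subgroup X, A ≤ K → Cfsg.pCore p X ≤ K → K ≤ L → K ≠ L → K ≤ L₀) ∧
      (∀ l ∈ L, A ≤ MulAut.conj l • L₀ → l ∈ L₀) := by
  have hn : (Cfsg.pCore p X).Normal := Lib.Cores.pCore_normal p
  set Q := Cfsg.pCore p X with hQd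
  set f := QuotientGroup.mk' Q with hfd
  have hfs : Function.Surjective f := QuotientGroup.mk'_surjective Q
  have hker : f.ker = Q := QuotientGroup.ker_mk' Q
  have hQS : Q ≤ (S : Subgroup X) := Lib.Cores.pCore_le_sylow S
  have hQN : ∀ y : X, Q ≤ MulAut.conj y • N := by
    intro y q hq
    rw [mem_cj]
    apply hS
    apply hQS
    have := hn.conj_mem q hq y⁻¹
    rwa [inv_inv] at this
  have hex : ∀ P : Sylow p (X ⧸ Q), ∃ z : X, (MulAut.conj z • (S : Subgroup X)).map f = P := by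
    intro P
    let P0 : Sylow p (X ⧸ Q) := S.mapSurjective hfs
    obtain ⟨g, hg⟩ := MulAction.exists_smul_eq (X ⧸ Q) P0 P
    obtain ⟨z, rfl⟩ := hfs g
    refine ⟨z, ?_⟩
    rw [map_cj, ← hg, coe_smul_sylow]
    rfl
  choose z hz using hex
  let M : Sylow p (X ⧸ Q) → Subgroup (X ⧸ Q) := fun P => (MulAut.conj (z P) • N).map f
  have hcomap' : ∀ K : Subgroup X, Q ≤ K → (K.map f).comap f = K := by
    intro K hK
    rw [comap_map_eq, hker]
    exact sup_eq_left.2 hK
  have hcomap : ∀ y : X, ((MulAut.conj y • N).map f).comap f = MulAut.conj y • N := fun y => hcomap' _ (hQN y)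
  have hM : UM M := by
    refine ⟨fun P => ?_, fun P => ?_, fun P K hK hne => ?_⟩
    · conv_lhs => rw [← hz P]
      exact map_mono (cj_mono hS)
    · intro h
      have h1 := hcomap (z P)
      have h2 : (MulAut.conj (z P) • N).map f = ⊤ := h
      rw [h2, comap_top] at h1
      apply hN
      apply cj_inj (g := z P)
      rw [← h1, cj_top]
    · have h1 : MulAut.conj (z P) • (S : Subgroup X) ≤ K.comap f := by
        rw [← map_le_iff_le_comap, hz P]; exact hK
      have h2 : MulAut.conj (z P)⁻¹ • K.comap f ≠ ⊤ := by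
        intro h3
        apply hne
        have h4 : K.comap f = ⊤ := by
          apply cj_inj (g := (z P)⁻¹)
          rw [h3, cj_top]
        rw [← map_comap_eq_self_of_surjective hfs K, h4]
        exact map_top_of_surjective f hfs
      have h3 := uniq _ (by
        have := cj_mono (g := (z P)⁻¹) h1
        rwa [cj_cj, inv_mul_cancel, cj_one] at this) h2
      have h4 := cj_mono (g := z P) h3
      rw [cj_cj, mul_inv_cancel, cj_one] at h4
      rw [← map_comap_eq_self_of_surjective hfs K]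
      exact map_mono h4
  have hO : Cfsg.pCore p (X ⧸ Q) = ⊥ := Lib.Cores.pCore_quotient_pCore p
  have hA' : IsPGroup p (A.map f) := hA.map f
  have hA1 : A.map f ≠ ⊥ := by
    intro h
    rw [Subgroup.map_eq_bot_iff, hker] at h
    exact hQ h
  obtain ⟨J, hJ⟩ := exists_J hM hO hA' hA1
  obtain ⟨a, b, P, P', ha, hb, hP, hP', hne⟩ := hJ.exists_members hM hO hA' hA1
  obtain ⟨a, b, P, P', ha, hb, hP, hP', hne, -, hL⟩ := hJ.exists_L hM hO hA' hA1 (K := ⊤) ha hb hP hP' hne le_top le_top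
  set L := MulAut.conj a • A.map f ⊔ MulAut.conj b • A.map f with hLd
  obtain ⟨g, rfl⟩ := hfs a
  have e1 : ∀ K : Subgroup (X ⧸ Q), (MulAut.conj (f g)⁻¹ • K).comap f = MulAut.conj g⁻¹ • K.comap f := by
    intro K
    rw [← map_inv]
    exact comap_cj f g⁻¹ K
  have e2 : ∀ K : Subgroup (X ⧸ Q), Q ≤ MulAut.conj g⁻¹ • K.comap f := by
    intro K
    rw [← e1]
    intro q hq
    rw [mem_comap]
    have : f q = 1 := by rwa [← MonoidHom.mem_ker, hker]
    rw [this]
    exact one_mem _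
  refine ⟨g⁻¹ * z P, MulAut.conj g⁻¹ • L.comap f, MulAut.conj g⁻¹ • (L ⊓ M P).comap f, ?_, ?_, e2 _, ?_, ?_, ?_⟩
  · rw [comap_inf, cj_inf, ← cj_cj]
    congr 2
    exact hcomap _
  · rw [← cj_le_iff]
    intro x hx
    rw [mem_comap]
    apply hL.A_le
    have h1 := mem_map_of_mem f hx
    rwa [map_cj] at h1
  · intro h
    have h1 := cj_inj h
    exact hL.ne (comap_injective hfs h1)
  · intro K hAK hQK hKL hKne
    have h1 : (K.map f).comap f = K := hcomap' K hQK
    have h2 := hL.uniq (MulAut.conj (f g) • K.map f) (cj_mono (map_mono hAK)) (by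
      rw [← map_cj, map_le_iff_le_comap]
      have := cj_mono (g := g) hKL
      rwa [cj_cj_inv] at this) (by
      intro h
      apply hKne
      apply cj_inj (g := g)
      rw [cj_cj_inv, ← h, comap_cj, h1])
    rw [← map_cj, map_le_iff_le_comap, cj_le_iff] at h2
    exact h2
  · intro l hl hle
    rw [mem_cj, inv_inv, mem_comap] at hl ⊢
    apply hL.ti _ hl
    have h1 := map_mono (f := f) hle
    rw [map_cj, map_cj, map_comap_eq_self_of_surjective hfs] at h1
    have h2 := cj_mono (g := f g) h1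
    rw [cj_cj, cj_cj, map_inv] at h2
    have e : f (g * l * g⁻¹) = f g * f l * (f g)⁻¹ := by rw [map_mul, map_mul, map_inv]
    rw [e]
    exact h2

/-- **the `L`-Lemma** -/
theorem llemma [Finite X] (T : Sylow p X) (hmin : Cfsg.IsMinimalOver (T : Subgroup X)) (M : Subgroup X)
    (hM : IsCoatom M ∧ (T : Subgroup X) ≤ M) (A : Subgroup X) (hAT : A ≤ (T : Subgroup X)) (hA : ¬ A ≤ Cfsg.pCore p X) :
    ∃ L : Subgroup X, A ⊔ Cfsg.pCore p X ≤ L ∧ ∃ L₀ : Subgroup X, A ⊔ (Cfsg.pCoreOf p L) ≤ L₀ ∧ L₀ < L ∧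
      (∀ Y : Subgroup X, A ⊔ (Cfsg.pCoreOf p L) ≤ Y → Y < L → Y ≤ L₀) ∧
      (∃ g : X, L₀ = L ⊓ (M.map (MulAut.conj (g : X)).toMonoidHom)) ∧
      ∀ x ∈ L, x ∉ L₀ → (A ⊔ (A.map (MulAut.conj (x : X)).toMonoidHom)) ⊔ (Cfsg.pCoreOf p L) = L := by
  have hd := MinOver.data_of_coatom hmin hM.1 hM.2
  have hAp : IsPGroup p A := T.isPGroup'.to_le hAT
  obtain ⟨y, L, L₀, hL₀, hAL, hQL, hne, hmax, hti⟩ := exists_lifted T M hM.2 hd.ne hd.max hAp hA
  have hle : L₀ ≤ L := by rw [hL₀]; exact inf_le_left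
  have hQ : Cfsg.pCore p X ≤ Cfsg.pCoreOf p L := by
    apply Lib.LocalCore.le_map_pCore (hQL.trans hle) (Lib.Cores.pCore_isPGroup p)
    exact le_normalizer_of_normal (Lib.Cores.pCore_normal p) _
  have hOL : Cfsg.pCoreOf p L ≤ L := PClosed.pCoreOf_le p L
  have hnorm : L ≤ normalizer (Cfsg.pCoreOf p L : Set X) := Lib.LocalCore.le_normalizer_map_pCore p L
  have hOp : IsPGroup p ↥(Cfsg.pCoreOf p L) := Lib.LocalCore.isPGroup_map_pCore p L
  have hAO : IsPGroup p ↥(A ⊔ Cfsg.pCoreOf p L) :=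
    hAp.to_sup_of_normal_right' hOp ((hAL.trans hle).trans hnorm)
  have hself : normalizer (L₀ : Set X) ⊓ L ≤ L₀ := by
    rintro l ⟨h1, h2⟩
    apply hti l h2
    rw [mem_normalizer_iff_cj.1 h1]
    exact hAL
  have hAOL : A ⊔ Cfsg.pCoreOf p L ≤ L := sup_le (hAL.trans hle) hOL
  have hAOne : A ⊔ Cfsg.pCoreOf p L ≠ L := by
    intro e
    apply hne
    rw [e] at hAO
    exact eq_of_normalizer_le hAO hle hself
  have hAO0 : A ⊔ Cfsg.pCoreOf p L ≤ L₀ := hmax _ le_sup_left (hQ.trans le_sup_right) hAOL hAOne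
  refine ⟨L, sup_le (hAL.trans hle) (hQL.trans hle), L₀, hAO0, lt_of_le_of_ne hle hne, fun Y hY hYL => ?_,
    ⟨y, hL₀⟩, fun x hx hx0 => ?_⟩
  · exact hmax Y (le_sup_left.trans hY) ((hQ.trans le_sup_right).trans hY) hYL.le hYL.ne
  · by_contra hcon
    apply hx0
    have hxL : MulAut.conj x • A ≤ L := by
      have := cj_mono (g := x) (hAL.trans hle)
      rwa [cj_of_mem hx] at this
    have h1 : (A ⊔ (MulAut.conj x • A)) ⊔ (Cfsg.pCoreOf p L) ≤ L :=
      sup_le (sup_le (hAL.trans hle) hxL) hOL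
    have h2 := hmax _ (le_sup_left.trans le_sup_left) (hQ.trans le_sup_right) h1 hcon
    have h3 : MulAut.conj x • A ≤ L₀ := (le_sup_right.trans le_sup_left).trans h2
    have h4 := hti x⁻¹ (inv_mem hx) (by rwa [← cj_le_iff])
    exact inv_mem_iff.1 h4

end Cfsg.Agent.H990.LLem
end
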